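import Mathlib
/-!
Finite subgroups of the additive group are cut out by additive polynomials.
-/

set_option autoImplicit false
set_option linter.style.haveILetI false

universe u

open Polynomial TensorProduct

noncomputable section

namespace Groth.Agent.FiniteKer

variable {K : Type u} [Field K]

/-- An injection of a principal ideal domain into a domain is flat. -/
theorem flat_of_injective {R S : Type u} [CommRing R] [IsDomain R] [IsBezout R] [CommRing S] [IsDomain S]
    (f : R →+* S) (hf : Function.Injective f) : f.Flat := by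
  letI : Algebra R S := f.toAlgebra
  have : Module.IsTorsionFree R S := Module.IsTorsionFree.mk fun r hr a b hab => by
    have hab' : f r * a = f r * b := hab
    exact mul_left_cancel₀ (fun h => hr.ne_zero (hf (h.trans (map_zero f).symm))) hab'
  show Module.Flat R S
  rw [Module.Flat.flat_iff_torsion_eq_bot_of_isBezout, ← Submodule.isTorsionFree_iff_torsion_eq_bot]
  exact this

theorem aeval_zero_coeff {B : Type u} [CommRing B] [Algebra K B] (p : K[X]) :
    aeval (0 : B) p = algebraMap K B (p.coeff 0) := by simp [aeval_def, eval₂_at_zero]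

/-- A monic endomorphism of the line is finite flat and surjective. -/
theorem flat_surjective_aeval (P : K[X]) (hP : P.Monic) (hd : 0 < P.natDegree) :
    (aeval P : K[X] →ₐ[K] K[X]).toRingHom.Flat ∧
      Function.Surjective (PrimeSpectrum.comap (aeval P : K[X] →ₐ[K] K[X]).toRingHom) := by
  let f : K[X] →ₐ[K] K[X] := aeval P
  have hinj : Function.Injective f := by
    refine (injective_iff_map_eq_zero f).2 fun q hq => ?_
    have h : q.comp P = 0 := by rw [← hq]; exact (Polynomial.comp_eq_aeval (p := q) (q := P))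
    rcases Polynomial.comp_eq_zero_iff.1 h with h' | ⟨-, h'⟩
    · exact h'
    · rw [h', natDegree_C] at hd
      exact absurd hd (lt_irrefl 0)
  let R := K[X]
  have hint : f.toRingHom.IsIntegral := by
    have hX : f.toRingHom.IsIntegralElem X := by
      refine ⟨P.map (C : K →+* K[X]) - C X, ?_, ?_⟩
      · refine (hP.map _).sub_of_left (lt_of_le_of_lt degree_C_le ?_)
        rw [degree_eq_natDegree (hP.map _).ne_zero, hP.natDegree_map]
        exact_mod_cast hd
      · rw [eval₂_sub, eval₂_C, eval₂_map, show f.toRingHom X = P from aeval_X P,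
          show f.toRingHom.comp C = C from RingHom.ext fun r => aeval_C P r, eval₂_C_X, sub_self]
    intro x
    induction x using Polynomial.induction_on' with
    | add p q hp hq => exact hp.add _ hq
    | monomial n r =>
      rw [← C_mul_X_pow_eq_monomial]
      refine RingHom.IsIntegralElem.mul _ ?_ ?_
      · rw [show C r = f.toRingHom (C r) from (aeval_C P r).symm]
        exact f.toRingHom.isIntegralElem_map
      · induction n with
        | zero => rw [pow_zero]; exact f.toRingHom.isIntegralElem_one
        | succ n ih => rw [pow_succ]; exact ih.mul _ hX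
  refine ⟨flat_of_injective f.toRingHom hinj, ?_⟩
  intro p
  obtain ⟨q, hq⟩ := RingHom.IsIntegral.comap_surjective hint hinj p
  exact ⟨q, hq⟩

variable {A C₀ : Type u} [CommRing A] [HopfAlgebra K A] [CommRing C₀] [HopfAlgebra K C₀]

/-- A finite quotient of the line is cut out by an additive polynomial. -/
theorem exists_theta_ga [Module.Finite K C₀] (e : K[X] ≃ₐ[K] A)
    (hprim : Coalgebra.comul (R := K) (e X) = e X ⊗ₜ 1 + 1 ⊗ₜ e X) (π : A →ₐc[K] C₀) (hπ : Function.Surjective π) :
    ∃ θ : A →ₐc[K] A,
      RingHom.ker (π : A →ₐ[K] C₀) = Ideal.map θ (RingHom.ker (Bialgebra.counitAlgHom K A)) ∧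
      (θ : A →ₐ[K] A).toRingHom.Flat ∧
      Function.Surjective (PrimeSpectrum.comap (θ : A →ₐ[K] A).toRingHom) := by
  classical
  haveI : Nontrivial C₀ := by
    refine nontrivial_of_ne (1 : C₀) 0 fun h => ?_
    have := congrArg (Bialgebra.counitAlgHom K C₀) h
    simp at this
  let ev : K[X] →ₐ[K] C₀ := (π : A →ₐ[K] C₀).comp e.toAlgHom
  have hev : Function.Surjective ev := hπ.comp e.surjective
  let x : C₀ := π (e X)
  have hevx : ∀ p : K[X], ev p = aeval x p := fun p => by
    have h := aeval_algHom_apply ev X p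
    rw [aeval_X_left_apply] at h
    exact h.symm
  have hxint : IsIntegral K x := IsIntegral.of_finite K x
  let P : K[X] := minpoly K x
  have hP : P.Monic := minpoly.monic hxint
  have hd : 0 < P.natDegree := minpoly.natDegree_pos hxint
  let d := P.natDegree
  -- coordinates on the quotient
  have hli : LinearIndependent K fun i : Fin d => x ^ (i : ℕ) := linearIndependent_pow x
  have hε : Coalgebra.counit (R := K) (e X) = 0 := by
    have h := congrArg (fun z => TensorProduct.lid K A (LinearMap.rTensor A (Coalgebra.counit (R := K)) z)) hprim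
    simp [Coalgebra.rTensor_counit_comul] at h
    haveI : Nontrivial A := e.symm.surjective.nontrivial
    exact h.resolve_right one_ne_zero
  have hΔx : Coalgebra.comul (R := K) x = x ⊗ₜ 1 + 1 ⊗ₜ x := by
    show Coalgebra.comul (R := K) (π (e X)) = _
    rw [← CoalgHomClass.map_comp_comul_apply, hprim]
    simp [x]
  have hzero : ∀ k, P.coeff k • (0 : C₀) = 0 := fun k => smul_zero _
  -- the coefficient identities
  have hc0 : P.coeff 0 = 0 := by
    have h := congrArg (Bialgebra.counitAlgHom K C₀) (minpoly.aeval K x)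
    rw [map_zero, ← aeval_algHom_apply] at h
    have hx0 : Bialgebra.counitAlgHom K C₀ x = 0 := by
      show Coalgebra.counit (R := K) (π (e X)) = 0
      rw [CoalgHomClass.counit_comp_apply, hε]
    rw [hx0, ← coeff_zero_eq_aeval_zero] at h
    exact h
  have hbin : ∀ i j : ℕ, 0 < i → 0 < j → P.coeff (i + j) * ((i + j).choose i : K) = 0 := by
    intro i j hi hj
    by_cases hij : d < i + j
    · rw [coeff_eq_zero_of_natDegree_lt hij, zero_mul]
    have hi' : i < d := by omega
    have hj' : j < d := by omega
    let c : Fin d → C₀ →ₗ[K] K := fun i =>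
      (LinearMap.exists_extend ((Finsupp.lapply i).comp hli.repr)).choose
    have hc : ∀ (i : Fin d) (m : ℕ), m < d → c i (x ^ m) = if m = i then 1 else 0 := by
      intro i m hm
      have hmem : x ^ m ∈ Submodule.span K (Set.range fun i : Fin d => x ^ (i : ℕ)) := Submodule.subset_span ⟨⟨m, hm⟩, rfl⟩
      have h := LinearMap.congr_fun (LinearMap.exists_extend ((Finsupp.lapply i).comp hli.repr)).choose_spec ⟨_, hmem⟩
      refine h.trans ?_
      show (hli.repr ⟨_, hmem⟩) i = _
      rw [hli.repr_eq_single ⟨m, hm⟩ ⟨_, hmem⟩ rfl, Finsupp.single_apply]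
      simp [Fin.ext_iff]
    let F : C₀ ⊗[K] C₀ →ₗ[K] K := (LinearMap.mul' K K).comp (TensorProduct.map (c ⟨i, hi'⟩) (c ⟨j, hj'⟩))
    have hPΔ : aeval (x ⊗ₜ[K] (1 : C₀) + (1 : C₀) ⊗ₜ[K] x) P = 0 := by
      rw [← hΔx]
      show aeval (Bialgebra.comulAlgHom K C₀ x) P = 0
      rw [aeval_algHom_apply, minpoly.aeval, map_zero]
    have h0 := congrArg F hPΔ
    rw [map_zero, aeval_eq_sum_range, map_sum] at h0
    have hterm : ∀ k ∈ Finset.range (d + 1),
        F (P.coeff k • (x ⊗ₜ[K] (1 : C₀) + (1 : C₀) ⊗ₜ[K] x) ^ k) =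
          if k = i + j then P.coeff (i + j) * ((i + j).choose i : K) else 0 := by
      intro k hk
      rw [Finset.mem_range] at hk
      rw [map_smul, add_pow, map_sum, smul_eq_mul]
      have hin : ∀ m ∈ Finset.range (k + 1),
          F ((x ⊗ₜ[K] (1 : C₀)) ^ m * ((1 : C₀) ⊗ₜ[K] x) ^ (k - m) * (k.choose m : C₀ ⊗[K] C₀)) =
            if m = i ∧ k - m = j then (k.choose m : K) else 0 := by
        intro m hm
        rw [Finset.mem_range] at hm
        rw [Algebra.TensorProduct.tmul_pow, Algebra.TensorProduct.tmul_pow, one_pow, one_pow,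
          Algebra.TensorProduct.tmul_mul_tmul, mul_one, one_mul, mul_comm, ← nsmul_eq_mul, map_nsmul]
        show k.choose m • (c ⟨i, hi'⟩ (x ^ m) * c ⟨j, hj'⟩ (x ^ (k - m))) = _
        by_cases hmd : m < d
        · by_cases hkd : k - m < d
          · rw [hc _ m hmd, hc _ _ hkd]
            by_cases h1 : m = i <;> by_cases h2 : k - m = j <;> simp [h1, h2]
          · have hm0 : m = 0 := by omega
            subst hm0
            rw [hc _ 0 hmd, if_neg (show ¬ (0 = i) by omega), if_neg (by omega), zero_mul, smul_zero]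
        · have hmk : k - m = 0 := by omega
          rw [hmk, hc _ 0 (by omega), if_neg (show ¬ (0 = j) by omega), if_neg (by omega), mul_zero, smul_zero]
      rw [Finset.sum_congr rfl hin]
      by_cases hk' : k = i + j
      · subst hk'
        rw [if_pos rfl, Finset.sum_eq_single i (fun b _ hb => if_neg fun h => hb h.1)
          (fun h => absurd (Finset.mem_range.2 (by omega)) h), if_pos ⟨rfl, by omega⟩]
      · rw [if_neg hk', Finset.sum_eq_zero fun m hm => if_neg fun h => ?_, mul_zero]
        rw [Finset.mem_range] at hm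
        omega
    rw [Finset.sum_congr rfl hterm, Finset.sum_ite_eq' (Finset.range (d + 1))] at h0
    rw [if_pos (Finset.mem_range.2 (by omega))] at h0
    exact h0
  have hadd : ∀ {B : Type u} [CommRing B] [Algebra K B] (a b : B), aeval (a + b) P = aeval a P + aeval b P := by
    intro B _ _ a b
    rw [aeval_eq_sum_range, aeval_eq_sum_range, aeval_eq_sum_range, ← Finset.sum_add_distrib]
    refine Finset.sum_congr rfl fun k _ => ?_
    rcases Nat.eq_zero_or_pos k with rfl | hk
    · simp [hc0]
    obtain ⟨k, rfl⟩ : ∃ k', k = k' + 1 := ⟨k - 1, by omega⟩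
    rw [← smul_add, add_pow, Finset.sum_range_succ, Finset.sum_range_succ']
    simp only [pow_zero, Nat.sub_zero, Nat.choose_zero_right, Nat.choose_self, Nat.cast_one, mul_one, one_mul,
      Nat.sub_self, smul_add, Finset.smul_sum]
    rw [Finset.sum_eq_zero fun m hm => ?_, zero_add, add_comm]
    rw [Finset.mem_range] at hm
    rw [← map_natCast (algebraMap K B), mul_comm _ (algebraMap K B _), ← Algebra.smul_def, smul_smul]
    have := hbin (m + 1) (k + 1 - (m + 1)) (by omega) (by omega)
    rw [show m + 1 + (k + 1 - (m + 1)) = k + 1 by omega] at this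
    rw [this, zero_smul]
  -- the endomorphism
  let q : K[X] →ₐ[K] K[X] := aeval P
  let θ₀ : A →ₐ[K] A := (e.toAlgHom.comp q).comp e.symm.toAlgHom
  have hθX : θ₀ (e X) = aeval (e X) P := by
    show e (q (e.symm (e X))) = _
    rw [e.symm_apply_apply, show q X = P from aeval_X P]
    have h := aeval_algHom_apply e.toAlgHom X P
    rw [aeval_X_left_apply] at h
    exact h.symm
  have hgen : ∀ {B : Type u} [CommRing B] [Algebra K B] {f g : A →ₐ[K] B}, f (e X) = g (e X) → f = g := by
    intro B _ _ f g h
    refine AlgHom.ext fun a => ?_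
    obtain ⟨p, rfl⟩ := e.surjective a
    exact AlgHom.congr_fun (Polynomial.algHom_ext (f := f.comp e.toAlgHom) (g := g.comp e.toAlgHom) h) p
  let θ : A →ₐc[K] A := BialgHom.ofAlgHom θ₀
    (hgen (by
      show Coalgebra.counit (R := K) (θ₀ (e X)) = Coalgebra.counit (R := K) (e X)
      rw [hθX, hε]
      show Bialgebra.counitAlgHom K A (aeval (e X) P) = 0
      rw [← aeval_algHom_apply, show Bialgebra.counitAlgHom K A (e X) = 0 from hε, aeval_zero_coeff, hc0,
        map_zero]))
    (hgen (by
      show Algebra.TensorProduct.map θ₀ θ₀ (Coalgebra.comul (R := K) (e X)) = Coalgebra.comul (R := K) (θ₀ (e X))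
      rw [hprim, map_add, Algebra.TensorProduct.map_tmul, Algebra.TensorProduct.map_tmul, map_one, hθX]
      show _ = Bialgebra.comulAlgHom K A (aeval (e X) P)
      rw [← aeval_algHom_apply, show Bialgebra.comulAlgHom K A (e X) = _ from hprim, hadd]
      congr 1
      · exact (aeval_algHom_apply (Algebra.TensorProduct.includeLeft : A →ₐ[K] A ⊗[K] A) (e X) P).symm
      · exact (aeval_algHom_apply (Algebra.TensorProduct.includeRight : A →ₐ[K] A ⊗[K] A) (e X) P).symm))
  have hqs := flat_surjective_aeval P hP hd
  refine ⟨θ, ?_, ?_, ?_⟩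
  · refine le_antisymm (fun z hz => ?_) (Ideal.map_le_iff_le_comap.2 fun z hz => ?_)
    · obtain ⟨p, rfl⟩ := e.surjective z
      have hp : P ∣ p := minpoly.dvd K x (by rw [← hevx]; exact hz)
      obtain ⟨w, rfl⟩ := hp
      rw [map_mul]
      refine Ideal.mul_mem_right _ _ ?_
      rw [show e P = θ (e X) by
        show e P = e (q (e.symm (e X)))
        rw [e.symm_apply_apply, show q X = P from aeval_X P]]
      exact Ideal.mem_map_of_mem _ hε
    · obtain ⟨p, rfl⟩ := e.surjective z
      show π (e (q (e.symm (e p)))) = 0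
      rw [e.symm_apply_apply]
      show ev (q p) = 0
      rw [← aeval_X_left_apply p, ← aeval_algHom_apply q, ← aeval_algHom_apply ev, show q X = P from aeval_X P,
        hevx P, minpoly.aeval, aeval_zero_coeff]
      have h : Bialgebra.counitAlgHom K A (e p) = 0 := hz
      rw [← aeval_X_left_apply p, ← AlgEquiv.coe_algHom, ← aeval_algHom_apply, ← aeval_algHom_apply,
        show Bialgebra.counitAlgHom K A (e.toAlgHom X) = 0 from hε, aeval_zero_coeff] at h
      rw [show p.coeff 0 = 0 from h, map_zero]
  · show (θ₀.toRingHom).Flat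
    exact ((RingHom.Flat.of_bijective (f := e.symm.toAlgHom.toRingHom) e.symm.bijective).comp hqs.1).comp
      (RingHom.Flat.of_bijective (f := e.toAlgHom.toRingHom) e.bijective)
  · show Function.Surjective (PrimeSpectrum.comap θ₀.toRingHom)
    intro p
    obtain ⟨p₁, hp₁⟩ := hqs.2 (PrimeSpectrum.comap e.toRingEquiv.toRingHom p)
    refine ⟨PrimeSpectrum.comap e.symm.toRingEquiv.toRingHom p₁, PrimeSpectrum.ext (Ideal.ext fun a => ?_)⟩
    obtain ⟨r, rfl⟩ := e.surjective a
    show e.symm (θ₀ (e r)) ∈ p₁.asIdeal ↔ e r ∈ p.asIdeal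
    have h := Ideal.ext_iff.1 (congrArg PrimeSpectrum.asIdeal hp₁) r
    refine Iff.trans ?_ h
    show e.symm (e (q (e.symm (e r)))) ∈ p₁.asIdeal ↔ q r ∈ p₁.asIdeal
    rw [e.symm_apply_apply, e.symm_apply_apply]

end Groth.Agent.FiniteKer
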