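import Groth.Agent.FiniteKer.Gm
import Groth.Agent.FiniteKer.Ga
import Groth.Agent.AffPts.Group
import Groth.Agent.MultBridge.Chart
import Groth.Prelude.Def_Red2
/-!
Finite subgroups of the additive and multiplicative groups are kernels of isogenies.
-/

set_option autoImplicit false
set_option backward.isDefEq.respectTransparency false
set_option backward.isDefEq.respectTransparency.types false
set_option linter.style.haveILetI false

universe u

open CategoryTheory CategoryTheory.Limits MonoidalCategory CartesianMonoidalCategory MonObj GrpObj AlgebraicGeometry TensorProduct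
open scoped TensorProduct

noncomputable section

namespace Groth.Agent.FiniteKer

open TorusField

/-- The coordinate Hopf algebra of the additive group. -/
theorem exists_ga_model (K : Type u) [Field K] :
    ∃ (A : Type u) (_ : CommRing A) (_ : HopfAlgebra K A) (e : Polynomial K ≃ₐ[K] A),
      Coalgebra.comul (R := K) (e Polynomial.X) = e Polynomial.X ⊗ₜ 1 + 1 ⊗ₜ e Polynomial.X ∧
      Nonempty (specGrp K A ≅ Grp.mk (Red.Ga (Spec (CommRingCat.of K)))) := by
  letI : Algebra (ULift.{u} ℤ) K :=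
    { algebraMap := (Int.castRingHom K).comp (ULift.ringEquiv : ULift.{u} ℤ ≃+* ℤ).toRingHom
      smul := fun r x => r.down • x
      commutes' := fun _ _ => mul_comm _ _
      smul_def' := fun r x => zsmul_eq_mul x r.down }
  let gen : SymmetricAlgebra (ULift.{u} ℤ) (ULift.{u} ℤ) := SymmetricAlgebra.ι (ULift.{u} ℤ) (ULift.{u} ℤ) (ULift.up 1)
  let t : K ⊗[ULift.{u} ℤ] SymmetricAlgebra (ULift.{u} ℤ) (ULift.{u} ℤ) := (1 : K) ⊗ₜ gen
  obtain ⟨φ₀, hψ, -⟩ := AffPts.existsUnique_sym (Polynomial.X : Polynomial K)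
  let ψ : SymmetricAlgebra (ULift.{u} ℤ) (ULift.{u} ℤ) →ₐ[ULift.{u} ℤ] Polynomial K :=
    { φ₀ with commutes' := fun r => RingHom.congr_fun (AffPts.ringHom_ulift_int_ext (φ₀.comp (algebraMap _ _)) (algebraMap _ _)) r }
  replace hψ : ψ gen = Polynomial.X := hψ
  let f : Polynomial K →ₐ[K] K ⊗[ULift.{u} ℤ] SymmetricAlgebra (ULift.{u} ℤ) (ULift.{u} ℤ) := Polynomial.aeval t
  let g : K ⊗[ULift.{u} ℤ] SymmetricAlgebra (ULift.{u} ℤ) (ULift.{u} ℤ) →ₐ[K] Polynomial K :=
    Algebra.TensorProduct.lift (Algebra.ofId K (Polynomial K)) ψ fun _ _ => Commute.all _ _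
  have hft : f Polynomial.X = t := Polynomial.aeval_X t
  have hgt : g t = Polynomial.X := by simp [g, t, hψ]
  have hfg : f.comp g = AlgHom.id K _ := by
    refine Algebra.TensorProduct.ext (Subsingleton.elim _ _) (SymmetricAlgebra.algHom_ext (LinearMap.ext_ring ?_))
    exact show f (g t) = t by rw [hgt, hft]
  have hgf : g.comp f = AlgHom.id K _ := Polynomial.algHom_ext (by
    show g (f Polynomial.X) = Polynomial.X
    rw [hft, hgt])
  let e := AlgEquiv.ofAlgHom f g hfg hgf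
  refine ⟨K ⊗[ULift.{u} ℤ] SymmetricAlgebra (ULift.{u} ℤ) (ULift.{u} ℤ), inferInstance, inferInstance, e, ?_, ⟨(eqToIso (congrArg (fun m => Grp.mk (Red.bc m Red.GaZ))
      (specULiftZIsTerminal.hom_ext _ (Spec.map (CommRingCat.ofHom (algebraMap (ULift.{u} ℤ) K))))) ≪≫ bcSpecIso (ULift.{u} ℤ) K (SymmetricAlgebra (ULift.{u} ℤ) (ULift.{u} ℤ))).symm⟩⟩
  show Coalgebra.comul (R := K) (f Polynomial.X) = f Polynomial.X ⊗ₜ 1 + 1 ⊗ₜ f Polynomial.X
  rw [hft, TensorProduct.comul_tmul, CommSemiring.comul_apply,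
    show Coalgebra.comul (R := ULift.{u} ℤ) gen = gen ⊗ₜ[ULift.{u} ℤ] 1 + 1 ⊗ₜ[ULift.{u} ℤ] gen from SymmetricAlgebra.comul_ι _ _ _,
    TensorProduct.tmul_add, map_add, TensorProduct.AlgebraTensorModule.tensorTensorTensorComm_tmul,
    TensorProduct.AlgebraTensorModule.tensorTensorTensorComm_tmul]
  rfl

/-- A finite subgroup of the additive or multiplicative group is the kernel of an isogeny. -/
theorem exists_endo_kernel {K : Type u} [Field K] {G H : Over (Spec (CommRingCat.of K))} [GrpObj G] [GrpObj H]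
    (hG : Nonempty (Grp.mk G ≅ Grp.mk (Red.Ga (Spec (CommRingCat.of K)))) ∨
      Nonempty (Grp.mk G ≅ Grp.mk (Red.Gm (Spec (CommRingCat.of K)))))
    (i : H ⟶ G) [IsMonHom i] [Mono i] [IsFinite H.hom] :
    ∃ φ : G ⟶ G, IsMonHom φ ∧ AlgGrp.IsKernel i φ ∧ Flat φ.left ∧ Surjective φ.left := by
  obtain ⟨C, _, _, ⟨eC⟩⟩ := MultBridge.exists_hopf K H
  rcases hG with ⟨⟨e⟩⟩ | ⟨⟨e⟩⟩
  · obtain ⟨A, _, _, eX, hprim, ⟨eG⟩⟩ := exists_ga_model K
    obtain ⟨π, hπ, hfin, hπe⟩ := exists_pi (eG ≪≫ e.symm) eC i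
    obtain ⟨θ, hker, hflat, hsurj⟩ := exists_theta_ga eX hprim π hπ
    exact exists_endo (eG ≪≫ e.symm) eC i π hπ hπe θ hker hflat hsurj
  · let eA := (dsIso K ℤ).symm ≪≫ e.symm
    obtain ⟨π, hπ, hfin, hπe⟩ := exists_pi eA eC i
    obtain ⟨θ, hker, hflat, hsurj⟩ := exists_theta_gm π
    exact exists_endo eA eC i π hπ hπe θ hker hflat hsurj

end Groth.Agent.FiniteKer
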