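import Groth.Agent.TorusField.Bridge
import Groth.Prelude.Def_AlgGrp
/-!
Endomorphisms of an affine group with a prescribed kernel.
-/

set_option autoImplicit false
set_option backward.isDefEq.respectTransparency false
set_option backward.isDefEq.respectTransparency.types false
set_option linter.style.haveILetI false

universe u

open CategoryTheory CategoryTheory.Limits MonoidalCategory CartesianMonoidalCategory MonObj GrpObj AlgebraicGeometry TensorProduct
open scoped TensorProduct

noncomputable section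

namespace Groth.Agent.FiniteKer

open TorusField

variable {K : Type u} [Field K] {A C : Type u} [CommRing A] [HopfAlgebra K A] [CommRing C] [HopfAlgebra K C]
  {G H : Over (Spec (CommRingCat.of K))} [GrpObj G] [GrpObj H]

/-- A finite subgroup of an affine group is given by a finite quotient. -/
theorem exists_pi (eA : specGrp K A ≅ Grp.mk G) (eC : specGrp K C ≅ Grp.mk H) (i : H ⟶ G) [IsMonHom i] [Mono i]
    [IsFinite H.hom] :
    ∃ π : A →ₐc[K] C, Function.Surjective π ∧ Module.Finite K C ∧
      specHom π = eC.hom ≫ Grp.ofHom (A := H) (B := G) i ≫ eA.inv := by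
  let Φ : (hopfSpec (CommRingCat.of K)).obj (Opposite.op (CommHopfAlgCat.of K C)) ⟶
      (hopfSpec (CommRingCat.of K)).obj (Opposite.op (CommHopfAlgCat.of K A)) :=
    eC.hom ≫ Grp.ofHom (A := H) (B := G) i ≫ eA.inv
  let q := (hopfSpec.fullyFaithful (R := CommRingCat.of K)).preimage Φ
  have hq : (hopfSpec (CommRingCat.of K)).map q = Φ := (hopfSpec.fullyFaithful (R := CommRingCat.of K)).map_preimage Φ
  let π : A →ₐc[K] C := q.unop.hom
  let m := CommRingCat.ofHom (π : A →ₐ[K] C).toRingHom
  have hm : Spec.map m = eC.hom.hom.hom.left ≫ i.left ≫ eA.inv.hom.hom.left :=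
    congrArg (fun k => k.hom.hom.left) hq
  haveI : IsIso eC.hom.hom.hom.left := ((Grp.forget _ ⋙ Over.forget _).mapIso eC).isIso_hom
  haveI : IsIso eA.inv.hom.hom.left := ((Grp.forget _ ⋙ Over.forget _).mapIso eA).isIso_inv
  haveI : IsAffine (specGrp K A).X.left := inferInstanceAs (IsAffine (Spec _))
  haveI : IsAffine G.left := @IsAffine.of_isIso _ _ eA.inv.hom.hom.left _ ‹_›
  haveI : IsClosedImmersion i.left := by
    haveI : IsSeparated G.hom := inferInstance
    haveI : IsProper (i.left ≫ G.hom) := by rw [Over.w i]; infer_instance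
    exact (IsClosedImmersion.iff_isProper_and_mono i.left).2 ⟨IsProper.of_comp i.left G.hom, inferInstance⟩
  haveI : IsClosedImmersion (Spec.map m) := by rw [hm]; infer_instance
  have h := (IsClosedImmersion.isAffine_surjective_of_isAffine (f := Spec.map m)).2
  refine ⟨π, fun c => ?_, ?_, hq⟩
  · obtain ⟨a, ha⟩ := h ((Scheme.ΓSpecIso (CommRingCat.of C)).inv c)
    refine ⟨(Scheme.ΓSpecIso (CommRingCat.of A)).hom a, ?_⟩
    have e := congrArg (fun k => k.hom a) (Scheme.ΓSpecIso_naturality m)
    simp only [CommRingCat.hom_comp, RingHom.comp_apply] at e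
    show m.hom ((Scheme.ΓSpecIso (CommRingCat.of A)).hom a) = c
    refine e.symm.trans ((congrArg _ ha).trans ?_)
    exact congrArg (fun k => k.hom c) (Scheme.ΓSpecIso (CommRingCat.of C)).inv_hom_id
  · have h1 : IsFinite (Spec.map (CommRingCat.ofHom (algebraMap K C))) :=
      FixedSmooth.hom_of_grpIso (A := (specGrp K C).X) (B := H) eC @IsFinite ‹IsFinite H.hom›
    rw [IsFinite.SpecMap_iff] at h1
    exact RingHom.finite_algebraMap.1 h1

/-- An endomorphism with the given kernel. -/
theorem exists_endo (eA : specGrp K A ≅ Grp.mk G) (eC : specGrp K C ≅ Grp.mk H) (i : H ⟶ G) [IsMonHom i]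
    (π : A →ₐc[K] C) (hπ : Function.Surjective π) (hπe : specHom π = eC.hom ≫ Grp.ofHom (A := H) (B := G) i ≫ eA.inv)
    (θ : A →ₐc[K] A) (hker : RingHom.ker (π : A →ₐ[K] C) = Ideal.map θ (RingHom.ker (Bialgebra.counitAlgHom K A)))
    (hflat : (θ : A →ₐ[K] A).toRingHom.Flat)
    (hsurj : Function.Surjective (PrimeSpectrum.comap (θ : A →ₐ[K] A).toRingHom)) :
    ∃ φ : G ⟶ G, IsMonHom φ ∧ AlgGrp.IsKernel i φ ∧ Flat φ.left ∧ Surjective φ.left := by
  let f : Grp.mk G ⟶ Grp.mk G := eA.inv ≫ specHom θ ≫ eA.hom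
  haveI : IsIso eA.inv.hom.hom.left := ((Grp.forget _ ⋙ Over.forget _).mapIso eA).isIso_inv
  haveI : IsIso eA.hom.hom.hom.left := ((Grp.forget _ ⋙ Over.forget _).mapIso eA).isIso_hom
  haveI : Flat (Spec.map (CommRingCat.ofHom (θ : A →ₐ[K] A).toRingHom)) := by
    rw [HasRingHomProperty.Spec_iff (P := @Flat)]; exact hflat
  haveI : Surjective (Spec.map (CommRingCat.ofHom (θ : A →ₐ[K] A).toRingHom)) := ⟨hsurj⟩
  refine ⟨f.hom.hom, f.hom.isMonHom_hom, ?_, ?_, ?_⟩
  · let εr : CommRingCat.of A ⟶ CommRingCat.of K := CommRingCat.ofHom (Bialgebra.counitAlgHom K A).toRingHom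
    let θr : CommRingCat.of A ⟶ CommRingCat.of A := CommRingCat.ofHom (θ : A →ₐ[K] A).toRingHom
    let πr : CommRingCat.of A ⟶ CommRingCat.of C := CommRingCat.ofHom (π : A →ₐ[K] C).toRingHom
    let αr : CommRingCat.of K ⟶ CommRingCat.of C := CommRingCat.ofHom (algebraMap K C)
    have hw : θr ≫ πr = εr ≫ αr := CommRingCat.hom_ext (RingHom.ext fun a => by
      show π (θ a) = algebraMap K C (Bialgebra.counitAlgHom K A a)
      have hmem : θ (a - algebraMap K A (Coalgebra.counit a)) ∈ RingHom.ker (π : A →ₐ[K] C) := by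
        rw [hker]
        refine Ideal.mem_map_of_mem _ ?_
        show Bialgebra.counitAlgHom K A _ = 0
        simp
      have h0 : π (θ (a - algebraMap K A (Coalgebra.counit a))) = 0 := hmem
      rw [map_sub θ, AlgHomClass.commutes, map_sub π, AlgHomClass.commutes, sub_eq_zero] at h0
      exact h0)
    have hle : ∀ s : PushoutCocone θr εr, ∀ a ∈ RingHom.ker (π : A →ₐ[K] C).toRingHom, s.inl.hom a = 0 := by
      intro s a ha
      have hle : RingHom.ker (π : A →ₐ[K] C) ≤ RingHom.ker s.inl.hom := by
        rw [hker, Ideal.map_le_iff_le_comap]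
        intro b hb
        show s.inl.hom (θ b) = 0
        refine Eq.trans (congrArg (fun k => k.hom b) s.condition) ?_
        show s.inr.hom (Bialgebra.counitAlgHom K A b) = 0
        rw [show Bialgebra.counitAlgHom K A b = 0 from hb, map_zero]
      exact hle ha
    have hpo : IsPushout θr εr πr αr := by
      refine IsPushout.mk ⟨hw⟩ ⟨PushoutCocone.IsColimit.mk _ (fun s => CommRingCat.ofHom
        ((Ideal.Quotient.lift (RingHom.ker (π : A →ₐ[K] C).toRingHom) s.inl.hom (hle s)).comp
          (RingHom.quotientKerEquivOfSurjective (f := (π : A →ₐ[K] C).toRingHom) hπ).symm.toRingHom))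
        (fun s => ?_) (fun s => ?_) fun s m h1 h2 => ?_⟩
      · ext a
        show Ideal.Quotient.lift _ s.inl.hom (hle s)
          ((RingHom.quotientKerEquivOfSurjective (f := (π : A →ₐ[K] C).toRingHom) hπ).symm (π a)) = s.inl.hom a
        rw [show π a = (RingHom.quotientKerEquivOfSurjective (f := (π : A →ₐ[K] C).toRingHom) hπ)
          (Ideal.Quotient.mk _ a) from rfl, RingEquiv.symm_apply_apply, Ideal.Quotient.lift_mk]
      · ext k
        show Ideal.Quotient.lift _ s.inl.hom (hle s)
          ((RingHom.quotientKerEquivOfSurjective (f := (π : A →ₐ[K] C).toRingHom) hπ).symm (algebraMap K C k)) = s.inr.hom k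
        rw [show algebraMap K C k = (RingHom.quotientKerEquivOfSurjective (f := (π : A →ₐ[K] C).toRingHom) hπ)
          (Ideal.Quotient.mk _ (algebraMap K A k)) from ((π : A →ₐ[K] C).commutes k).symm,
          RingEquiv.symm_apply_apply, Ideal.Quotient.lift_mk]
        have := congrArg (fun m => m.hom (algebraMap K A k)) s.condition
        refine Eq.trans ?_ (this.trans ?_)
        · show _ = s.inl.hom (θ (algebraMap K A k))
          exact (congrArg s.inl.hom (AlgHomClass.commutes θ k)).symm
        · show s.inr.hom (Bialgebra.counitAlgHom K A (algebraMap K A k)) = _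
          rw [AlgHom.commutes]
          rfl
      · ext c
        obtain ⟨a, rfl⟩ := hπ c
        show m.hom (π a) = Ideal.Quotient.lift _ s.inl.hom (hle s)
          ((RingHom.quotientKerEquivOfSurjective (f := (π : A →ₐ[K] C).toRingHom) hπ).symm (π a))
        rw [show π a = (RingHom.quotientKerEquivOfSurjective (f := (π : A →ₐ[K] C).toRingHom) hπ)
          (Ideal.Quotient.mk _ a) from rfl, RingEquiv.symm_apply_apply, Ideal.Quotient.lift_mk]
        exact congrArg (fun k => k.hom a) h1
    have hS := isPullback_SpecMap_of_isPushout _ _ _ _ hpo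
    have hO : IsPullback (specHom π).hom.hom (toUnit (specGrp K C).X) (specHom θ).hom.hom η[(specGrp K A).X] :=
      IsPullback.of_map (Over.forget _) (Over.OverMorphism.ext hS.w) hS
    refine IsPullback.of_iso hO ((Grp.forget _).mapIso eC) ((Grp.forget _).mapIso eA) (Iso.refl _)
      ((Grp.forget _).mapIso eA) ?_ (toUnit_unique _ _) ?_ ?_
    · have := congrArg (fun k => (k ≫ eA.hom).hom.hom) hπe
      simp only [Category.assoc, Iso.inv_hom_id, Category.comp_id] at this
      exact this
    · show (specHom θ).hom.hom ≫ eA.hom.hom.hom = eA.hom.hom.hom ≫ (eA.inv ≫ specHom θ ≫ eA.hom).hom.hom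
      exact congrArg (fun k => k.hom.hom) (eA.hom_inv_id_assoc (specHom θ ≫ eA.hom)).symm
    · haveI : IsMonHom eA.hom.hom.hom := eA.hom.hom.isMonHom_hom
      show η[(specGrp K A).X] ≫ eA.hom.hom.hom = 𝟙 _ ≫ η[G]
      rw [Category.id_comp, IsMonHom.one_hom]
  · show Flat (eA.inv.hom.hom.left ≫ (specHom θ).hom.hom.left ≫ eA.hom.hom.hom.left)
    haveI : Flat (specHom θ).hom.hom.left := ‹Flat (Spec.map _)›
    infer_instance
  · show Surjective (eA.inv.hom.hom.left ≫ (specHom θ).hom.hom.left ≫ eA.hom.hom.hom.left)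
    haveI : Surjective (specHom θ).hom.hom.left := ‹Surjective (Spec.map _)›
    infer_instance

end Groth.Agent.FiniteKer
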