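import Groth.Agent.FiniteKer.Basic
import Groth.Agent.SplitHom.Alg
/-!
Finite subgroups of the multiplicative group are roots of unity.
-/

set_option autoImplicit false
set_option linter.style.haveILetI false

universe u

open MonoidAlgebra TensorProduct

noncomputable section

namespace Groth.Agent.FiniteKer

variable {K : Type u} [Field K] {C : Type u} [CommRing C] [HopfAlgebra K C]

/-- A finite quotient of the Laurent polynomials is cut out by a power map. -/
theorem exists_theta_gm [Module.Finite K C] (π : MonoidAlgebra K (Multiplicative ℤ) →ₐc[K] C) :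
    ∃ θ : MonoidAlgebra K (Multiplicative ℤ) →ₐc[K] MonoidAlgebra K (Multiplicative ℤ),
      RingHom.ker (π : MonoidAlgebra K (Multiplicative ℤ) →ₐ[K] C) =
        Ideal.map θ (RingHom.ker (Bialgebra.counitAlgHom K (MonoidAlgebra K (Multiplicative ℤ)))) ∧
      (θ : MonoidAlgebra K (Multiplicative ℤ) →ₐ[K] MonoidAlgebra K (Multiplicative ℤ)).toRingHom.Flat ∧
      Function.Surjective (PrimeSpectrum.comap
        (θ : MonoidAlgebra K (Multiplicative ℤ) →ₐ[K] MonoidAlgebra K (Multiplicative ℤ)).toRingHom) := by
  classical
  let M := Multiplicative ℤ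
  let χ : M →* C := (π : MonoidAlgebra K M →ₐ[K] C).toMonoidHom.comp (MonoidAlgebra.of K M)
  have hgl : ∀ m, IsGroupLikeElem K (χ m) := fun m => (MonoidAlgebra.isGroupLikeElem_single_one m).map π
  let N : Subgroup M := MonoidHom.ker χ
  let χ' : M ⧸ N →* C := (Units.coeHom C).comp ((QuotientGroup.kerLift χ.toHomUnits).comp
    (QuotientGroup.quotientMulEquivOfEq (show N = χ.toHomUnits.ker by
      ext m; exact ⟨fun h => Units.ext h, fun h => congrArg Units.val h⟩)).toMonoidHom)
  have hχ' : ∀ m : M, χ' (m : M ⧸ N) = χ m := fun m => rfl
  have hinj : Function.Injective χ' := fun a b => by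
    induction a using QuotientGroup.induction_on with
    | H x => induction b using QuotientGroup.induction_on with
      | H y =>
        intro h
        rw [hχ', hχ'] at h
        refine QuotientGroup.eq.2 (show χ (x⁻¹ * y) = 1 from ?_)
        rw [map_mul, ← h, ← map_mul, inv_mul_cancel, map_one]
  have hli : LinearIndependent K χ' :=
    (linearIndepOn_isGroupLikeElem (R := K) (A := C)).linearIndependent.comp
      (fun q => (⟨χ' q, by induction q using QuotientGroup.induction_on with | H m => exact hgl m⟩ :
        {x : C | IsGroupLikeElem K x}))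
      fun a b h => hinj (congrArg Subtype.val h)
  haveI : Finite (M ⧸ N) := hli.finite
  have hne : N ≠ ⊥ := fun h => by
    haveI : Finite M := Finite.of_equiv _ ((QuotientGroup.quotientMulEquivOfEq h).trans QuotientGroup.quotientBot).toEquiv
    exact not_finite M
  obtain ⟨g, hg⟩ : ∃ g, N = Subgroup.zpowers g := by
    obtain ⟨g, hg⟩ := IsCyclic.exists_generator (α := N)
    refine ⟨g.1, le_antisymm (fun x hx => ?_) ((Subgroup.zpowers_le).2 g.2)⟩
    obtain ⟨k, hk⟩ := Subgroup.mem_zpowers_iff.1 (hg ⟨x, hx⟩)
    exact Subgroup.mem_zpowers_iff.2 ⟨k, congrArg Subtype.val hk⟩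
  have hg1 : g ≠ 1 := fun h => hne (by rw [hg, h, Subgroup.zpowers_one_eq_bot])
  let f : M →* M := zpowersHom M g
  have hf : Function.Injective f := by
    intro a b hab
    have hab' : g ^ Multiplicative.toAdd a = g ^ Multiplicative.toAdd b := hab
    have : Multiplicative.toAdd a * Multiplicative.toAdd g = Multiplicative.toAdd b * Multiplicative.toAdd g := by
      rw [← smul_eq_mul, ← smul_eq_mul, ← toAdd_zpow, ← toAdd_zpow]
      exact congrArg Multiplicative.toAdd hab'
    exact Multiplicative.toAdd.injective (mul_right_cancel₀ (fun h0 => hg1 (Multiplicative.toAdd.injective h0)) this)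
  let θ := MonoidAlgebra.mapDomainBialgHom K f
  refine ⟨θ, ?_, (SplitHom.flat_surjective_of_injective K f hf).1, (SplitHom.flat_surjective_of_injective K f hf).2⟩
  set I : Ideal (MonoidAlgebra K M) := Ideal.map θ (RingHom.ker (Bialgebra.counitAlgHom K (MonoidAlgebra K M))) with hI
  have hmemN : ∀ n ∈ N, (single n 1 : MonoidAlgebra K M) - 1 ∈ I := fun n hn => by
    obtain ⟨k, rfl⟩ := Subgroup.mem_zpowers_iff.1 (hg ▸ hn)
    have h : θ (single (Multiplicative.ofAdd k) 1 - 1) = single (g ^ k) 1 - 1 := by
      rw [map_sub, map_one, MonoidAlgebra.mapDomainBialgHom_single]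
      rfl
    rw [← h]
    refine Ideal.mem_map_of_mem _ ?_
    show Bialgebra.counitAlgHom K _ _ = 0
    simp
  refine le_antisymm (fun z hz => ?_) (Ideal.map_le_iff_le_comap.2 fun z hz => ?_)
  · let h : M ⧸ N →* MonoidAlgebra K M ⧸ I :=
      QuotientGroup.lift N ((Ideal.Quotient.mk I).toMonoidHom.comp (MonoidAlgebra.of K M)) fun n hn => by
        show Ideal.Quotient.mk I (single n 1) = 1
        rw [← map_one (Ideal.Quotient.mk I), Ideal.Quotient.eq]
        exact hmemN n hn
    have e1 : ∀ w, π w = MonoidAlgebra.lift K C (M ⧸ N) χ' (MonoidAlgebra.mapDomainAlgHom K K (QuotientGroup.mk' N) w) := by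
      intro w
      induction w using MonoidAlgebra.induction_linear with
      | zero => simp
      | add a b ha hb => simp only [map_add, ha, hb]
      | single m r =>
        rw [show (single m r : MonoidAlgebra K M) = r • single m 1 by simp, map_smul, map_smul, map_smul]
        simp [hχ']
        rfl
    have e2 : ∀ w, Ideal.Quotient.mk I w =
        MonoidAlgebra.lift K _ (M ⧸ N) h (MonoidAlgebra.mapDomainAlgHom K K (QuotientGroup.mk' N) w) := by
      intro w
      induction w using MonoidAlgebra.induction_linear with
      | zero => simp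
      | add a b ha hb => simp only [map_add, ha, hb]
      | single m r =>
        rw [show (single m r : MonoidAlgebra K M) = r • single m 1 by simp, ← Ideal.Quotient.mkₐ_eq_mk K,
          map_smul, map_smul, map_smul]
        simp [h]
    have hinjL : Function.Injective (MonoidAlgebra.lift K C (M ⧸ N) χ') := by
      intro a b hab
      have key : ∀ w : MonoidAlgebra K (M ⧸ N),
          MonoidAlgebra.lift K C (M ⧸ N) χ' w = Finsupp.linearCombination K χ' w.coeff := fun w => by
        induction w using MonoidAlgebra.induction_linear with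
        | zero => simp
        | add a b ha hb => simp [ha, hb]
        | single m r => simp
      rw [key, key] at hab
      exact MonoidAlgebra.ext (linearIndependent_iff_injective_finsuppLinearCombination.1 hli hab)
    rw [← Ideal.Quotient.eq_zero_iff_mem, e2]
    have : MonoidAlgebra.mapDomainAlgHom K K (QuotientGroup.mk' N) z = 0 := by
      apply hinjL
      rw [← e1, map_zero]
      exact hz
    rw [this, map_zero]
  · show π (θ z) = 0
    have e : ∀ w, π (θ w) = algebraMap K C (Coalgebra.counit (R := K) w) := by
      intro w
      induction w using MonoidAlgebra.induction_linear with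
      | zero => simp
      | add a b ha hb => simp only [map_add, ha, hb]
      | single m r =>
        have hm : χ (f m) = 1 := (show f m ∈ N from hg ▸ ⟨Multiplicative.toAdd m, rfl⟩)
        rw [show (single m r : MonoidAlgebra K M) = r • single m 1 by simp, map_smul, map_smul, map_smul,
          show π (θ (single m 1)) = χ (f m) by simp [θ, χ], hm]
        simp [Algebra.smul_def]
    rw [e, show Coalgebra.counit (R := K) z = 0 from hz, map_zero]

end Groth.Agent.FiniteKer
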